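import Groth.Agent.EtCoh.K720.MuFppf
import Groth.Agent.EtCoh.K769.Coef
import Groth.Agent.S18104
import Groth.Agent.RatRes.K162.KDim
import Groth.Agent.Fga.EulerLEAdd
import Groth.Agent.Dix.ProjProper
import Groth.Prelude.Def_Neron

/-!
# Flat cohomology of `μ_{p^n}` and étale cohomology of `G_m / p^n`

* `main_of_mono`: `H^{i+1}_fl(X, μ_m) ≃ H^i_et(X, G_m/m)` as soon as the `m`-th power map is injective on the étale
  sheaf `G_m` (`X` reduced of characteristic `p`, `m = p ^ n`: `mono_powMap_pow`);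
* `sub_zero`: `H^0_fl(X, μ_m) = 0` in this case;
* `sub_pow`: `X` smooth of relative dimension `d` and proper over a finite field of characteristic `p`:
  `H^i(X_et, G_m/p^n) = 0` for `i ≥ d + 2`; `finite_pow`: finiteness in all degrees;
* `of_etale`: the duality statement for `H_fl(X, μ_{p^n})` on a surface follows from the one for
  `H_et(X, G_m/p^n)`.
-/

set_option autoImplicit false
universe u
open CategoryTheory CategoryTheory.Limits AlgebraicGeometry Opposite Abelian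

namespace K154.FlatMu

section One

variable (X : Scheme.{u})

theorem pushGm_nsmul (m : ℕ) :
    (EtFppf.aPush X).map (m • 𝟙 (EtDl.GmF X)) ≫ (K720.MuFppf.pushGm X).hom =
      (K720.MuFppf.pushGm X).hom ≫ EtCoh.powMap X m :=
  K720.MuFppf.pushGm_nsmul X m

theorem mono_map (m : ℕ) (hmono : Mono (EtCoh.powMap X m)) :
    Mono ((EtFppf.aPush X).map (m • 𝟙 (EtDl.GmF X))) := by
  have h2 : Mono ((EtFppf.aPush X).map (m • 𝟙 (EtDl.GmF X)) ≫ (K720.MuFppf.pushGm X).hom) := by
    rw [pushGm_nsmul]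
    infer_instance
  exact mono_of_mono _ (K720.MuFppf.pushGm X).hom

/-- `H^{i+1}_fl(X, μ_m) ≃ H^i_et(X, G_m/m)` when the `m`-th power map is injective on the étale sheaf `G_m`. -/
theorem main_of_mono (m : ℕ) (hm : 0 < m) (hmono : Mono (EtCoh.powMap X m)) (n : ℕ) :
    Nonempty (EtFppf.HF X (kernel (m • 𝟙 (EtDl.GmF X))) (n + 1) ≃+
      EtCoh.H X (cokernel (EtCoh.powMap X m)) n) := by
  have i1 := Groth.Agent.Etrest.FppfExact.aPull_preservesFiniteLimits X
  have i2 := K720.MuFppf.epi_nsmul X m hm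
  have i3 := mono_map X m hmono
  have i4 : PreservesFiniteLimits (EtFppf.aPush X) :=
    have : PreservesLimitsOfSize.{0, 0} (EtFppf.aPush X) :=
      (EtFppf.aAdj X).rightAdjoint_preservesLimits
    PreservesLimitsOfSize.preservesFiniteLimits _
  obtain ⟨e⟩ := K720.KerShift.main (EtFppf.aAdj X) (G := EtDl.GmF X)
    (fun q hq => Groth.Agent.S5714.result X q hq) (m • 𝟙 (EtDl.GmF X))
    ((constantSheaf X.smallEtaleTopology AddCommGrpCat.{u + 1}).obj (AddCommGrpCat.of (ULift ℤ))) n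
  have e2 : Ext ((EtFppf.aPull X).obj ((constantSheaf X.smallEtaleTopology AddCommGrpCat.{u + 1}).obj
      (AddCommGrpCat.of (ULift ℤ)))) (kernel (m • 𝟙 (EtDl.GmF X))) (n + 1) ≃+
      EtFppf.HF X (kernel (m • 𝟙 (EtDl.GmF X))) (n + 1) :=
    (((Abelian.extFunctor (n + 1)).mapIso
      (Groth.Agent.Etrest.FppfExact.constIso X (AddCommGrpCat.of (ULift ℤ))).symm.op).app
        (kernel (m • 𝟙 (EtDl.GmF X)))).addCommGroupIsoToAddEquiv
  have e1 : EtCoh.H X (cokernel ((EtFppf.aPush X).map (m • 𝟙 (EtDl.GmF X)))) n ≃+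
      EtCoh.H X (cokernel (EtCoh.powMap X m)) n :=
    ((Abelian.extFunctorObj _ n).mapIso (K720.MuFppf.cokIso X m)).addCommGroupIsoToAddEquiv
  exact ⟨e2.symm.trans (e.trans e1)⟩

/-- `H^0_fl(X, μ_m) = 0` when the `m`-th power map is injective on the étale sheaf `G_m`. -/
theorem sub_zero (m : ℕ) (hmono : Mono (EtCoh.powMap X m)) :
    Subsingleton (EtFppf.HF X (kernel (m • 𝟙 (EtDl.GmF X))) 0) := by
  have i3 := mono_map X m hmono
  have hz : IsZero ((EtFppf.aPush X).obj (kernel (m • 𝟙 (EtDl.GmF X)))) := by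
    have i4 : PreservesFiniteLimits (EtFppf.aPush X) :=
      have : PreservesLimitsOfSize.{0, 0} (EtFppf.aPush X) :=
        (EtFppf.aAdj X).rightAdjoint_preservesLimits
      PreservesLimitsOfSize.preservesFiniteLimits _
    have h1 : Mono ((EtFppf.aPush X).map (kernel.ι (m • 𝟙 (EtDl.GmF X)))) := inferInstance
    have h2 : (EtFppf.aPush X).map (kernel.ι (m • 𝟙 (EtDl.GmF X))) = 0 := by
      rw [← cancel_mono ((EtFppf.aPush X).map (m • 𝟙 (EtDl.GmF X))), ← Functor.map_comp, kernel.condition,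
        Functor.map_zero, zero_comp]
    exact IsZero.of_mono_eq_zero _ h2
  have h0 : Subsingleton ((EtFppf.aPull X).obj ((constantSheaf X.smallEtaleTopology AddCommGrpCat.{u + 1}).obj
      (AddCommGrpCat.of (ULift ℤ))) ⟶ kernel (m • 𝟙 (EtDl.GmF X))) := by
    refine ((EtFppf.aAdj X).homEquiv _ _).subsingleton_congr.2 ?_
    exact ⟨fun a b => hz.eq_of_tgt a b⟩
  have h1 : Subsingleton (Ext ((EtFppf.aPull X).obj ((constantSheaf X.smallEtaleTopology
      AddCommGrpCat.{u + 1}).obj (AddCommGrpCat.of (ULift ℤ)))) (kernel (m • 𝟙 (EtDl.GmF X))) 0) :=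
    Ext.addEquiv₀.toEquiv.subsingleton_congr.2 h0
  have e2 : Ext ((EtFppf.aPull X).obj ((constantSheaf X.smallEtaleTopology AddCommGrpCat.{u + 1}).obj
      (AddCommGrpCat.of (ULift ℤ)))) (kernel (m • 𝟙 (EtDl.GmF X))) 0 ≃+
      EtFppf.HF X (kernel (m • 𝟙 (EtDl.GmF X))) 0 :=
    (((Abelian.extFunctor 0).mapIso
      (Groth.Agent.Etrest.FppfExact.constIso X (AddCommGrpCat.of (ULift ℤ))).symm.op).app
        (kernel (m • 𝟙 (EtDl.GmF X)))).addCommGroupIsoToAddEquiv
  exact e2.symm.toEquiv.subsingleton_congr.2 h1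

theorem mono_powMap_pow (p : ℕ) [Fact p.Prime] [FrobSch.IsCharP X p] [IsReduced X] (n : ℕ) :
    Mono (EtCoh.powMap X (p ^ n)) := by
  have : Mono (p • 𝟙 (EtCoh.Gm X)) := K720.MuFppf.mono_powMap X p
  exact K769.Coef.mono_pow (EtCoh.Gm X) p n

end One

section Les

variable {X : Scheme.{u}} {S : ShortComplex (EtCoh.Ab X)} (hS : S.ShortExact)

include hS

theorem sub₃ (i : ℕ) (h₂ : Subsingleton (EtCoh.H X S.X₂ i)) (h₁ : Subsingleton (EtCoh.H X S.X₁ (i + 1))) :
    Subsingleton (EtCoh.H X S.X₃ i) := by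
  refine subsingleton_of_forall_eq 0 fun x => ?_
  obtain ⟨y, hy⟩ := Ext.covariant_sequence_exact₃ _ hS x (n₁ := i + 1) rfl (Subsingleton.elim _ _)
  rw [← hy, show y = 0 from Subsingleton.elim _ _, Ext.zero_comp]

theorem sub₁ (i : ℕ) (h₃ : Subsingleton (EtCoh.H X S.X₃ i)) (h₂ : Subsingleton (EtCoh.H X S.X₂ (i + 1))) :
    Subsingleton (EtCoh.H X S.X₁ (i + 1)) := by
  refine subsingleton_of_forall_eq 0 fun x => ?_
  obtain ⟨y, hy⟩ := Ext.covariant_sequence_exact₁ _ hS x (Subsingleton.elim _ _) (n₀ := i) rfl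
  rw [← hy, show y = 0 from Subsingleton.elim _ _, Ext.zero_comp]

theorem sub₂ (i : ℕ) (h₁ : Subsingleton (EtCoh.H X S.X₁ i)) (h₃ : Subsingleton (EtCoh.H X S.X₃ i)) :
    Subsingleton (EtCoh.H X S.X₂ i) := by
  refine subsingleton_of_forall_eq 0 fun x => ?_
  obtain ⟨y, hy⟩ := Ext.covariant_sequence_exact₂ _ hS x (Subsingleton.elim _ _)
  rw [← hy, show y = 0 from Subsingleton.elim _ _, Ext.zero_comp]

theorem fin₂ (i : ℕ) (h₁ : Finite (EtCoh.H X S.X₁ i)) (h₃ : Finite (EtCoh.H X S.X₃ i)) :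
    Finite (EtCoh.H X S.X₂ i) :=
  Groth.Agent.Etcore.PunctualH0.finite_of_exact
    (fun x : EtCoh.H X S.X₁ i => (x : Ext _ S.X₁ i).comp (Ext.mk₀ S.f) (add_zero i))
    (AddMonoidHom.mk' (fun x : EtCoh.H X S.X₂ i => (x : Ext _ S.X₂ i).comp (Ext.mk₀ S.g) (add_zero i))
      (fun _ _ => Ext.add_comp _ _ _ _))
    (fun x hx => Ext.covariant_sequence_exact₂ _ hS x hx)

end Les

section Surf

open K611.Sh K611.Seq K611.Om K611.Zar K611.Exact K611.Charts

variable (k : Type u) [Field k] [Finite k] (p : ℕ) [Fact p.Prime] [CharP k p]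
  (X : Scheme.{u}) (f : X ⟶ Spec (.of k)) [AlgebraicGeometry.IsIntegral X] [IsProper f]
  (d : ℕ) [SmoothOfRelativeDimension d f]

include f in
theorem isCharP : FrobSch.IsCharP X p := ⟨Groth.Agent.S18104.cast_p_eq_zero k p X f⟩

omit [Finite k] in
include f in
theorem subsingleton_HH (M : X.Modules) (i : ℕ) (hi : d < i) : Subsingleton (Coh.HH X M i) := by
  have : IsNoetherian X := by
    have : IsLocallyNoetherian X := LocallyOfFiniteType.isLocallyNoetherian f
    have : CompactSpace X := QuasiCompact.compactSpace_of_compactSpace f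
    exact {}
  exact Groth.Agent.Fga.EulerLEAdd.subsingleton_HH X d (K162.KDim.topologicalKrullDim_le_of_smooth k d f) M i hi

include f in
/-- `H^i(X_et, G_m/p) = 0` for `i ≥ d + 2`. -/
theorem sub_one (i : ℕ) (hi : d + 2 ≤ i) : Subsingleton (EtCoh.H X (cokernel (EtCoh.powMap X p)) i) := by
  have h := Groth.Agent.S18104.cast_p_eq_zero k p X f
  have hX := hasCharts p k X f d
  have hGa : ∀ i, d < i → Subsingleton (EtCoh.H X (sh GaF X) i) := fun i hi => by
    have h1 : Subsingleton (EtCoh.H X (EtCoh.Ga X) i) :=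
      (Groth.Agent.Etbase.GaZar.gaEquiv X i).toEquiv.subsingleton_congr.1 (subsingleton_HH k X f d _ i hi)
    exact (Hcongr (gaIso X) i).toEquiv.subsingleton_congr.1 h1
  have hOm : ∀ i, d < i → Subsingleton (EtCoh.H X (sh OmF X) i) := fun i hi =>
    ((omMod p f).cmp (omBC p) h i).toEquiv.subsingleton_congr.1 (subsingleton_HH k X f d _ i hi)
  have hA : ∀ i, d < i → Subsingleton (EtCoh.H X (seqB h).X₁ i) := fun i hi =>
    sub₃ (seqA_shortExact h hX) i (hGa i hi) (hGa (i + 1) (by omega))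
  have hB : ∀ i, d < i → Subsingleton (EtCoh.H X (sh QF X) i) := fun i hi =>
    sub₃ (seqB_shortExact h hX) i (hOm i hi) (hA (i + 1) (by omega))
  obtain ⟨j, rfl⟩ : ∃ j, i = j + 1 := ⟨i - 1, by omega⟩
  exact (Hcongr (nuIso h) (j + 1)).toEquiv.subsingleton_congr.2
    (sub₁ (nuSeq_shortExact h hX) j (hB j (by omega)) (hOm (j + 1) (by omega)))

include f in
/-- `H^i(X_et, G_m/p^n) = 0` for `i ≥ d + 2`. -/
theorem sub_pow (n : ℕ) (i : ℕ) (hi : d + 2 ≤ i) :
    Subsingleton (EtCoh.H X (cokernel (EtCoh.powMap X (p ^ n))) i) := by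
  have := isCharP k p X f
  have hm : Mono (p • 𝟙 (EtCoh.Gm X)) := K720.MuFppf.mono_powMap X p
  induction n with
  | zero =>
    have hz : IsZero (cokernel (EtCoh.powMap X (p ^ 0))) := by
      have : Epi (EtCoh.powMap X (p ^ 0)) := by
        rw [EtCoh.powMap, pow_zero, one_smul]
        infer_instance
      exact isZero_cokernel_of_epi _
    refine subsingleton_of_forall_eq 0 fun x => ?_
    rw [← Ext.comp_mk₀_id x, hz.eq_of_src (𝟙 (cokernel (EtCoh.powMap X (p ^ 0)))) 0, Ext.mk₀_zero, Ext.comp_zero]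
  | succ n ih =>
    refine sub₂ (K769.Coef.shortExact (EtCoh.Gm X) p (m := n) (k := 1) rfl) i ih ?_
    have h1 := sub_one k p X f d i hi
    have e : cokernel (EtCoh.powMap X p) ≅ cokernel ((p ^ 1) • 𝟙 (EtCoh.Gm X)) := eqToIso (by
      rw [pow_one]
      rfl)
    exact (Hcongr e i).toEquiv.subsingleton_congr.1 h1

include f d in
/-- Finiteness of `H^i(X_et, G_m/p^n)`. -/
theorem finite_pow (n : ℕ) (i : ℕ) : Finite (EtCoh.H X (cokernel (EtCoh.powMap X (p ^ n))) i) := by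
  have := isCharP k p X f
  have hm : Mono (p • 𝟙 (EtCoh.Gm X)) := K720.MuFppf.mono_powMap X p
  induction n with
  | zero =>
    have hz : IsZero (cokernel (EtCoh.powMap X (p ^ 0))) := by
      have : Epi (EtCoh.powMap X (p ^ 0)) := by
        rw [EtCoh.powMap, pow_zero, one_smul]
        infer_instance
      exact isZero_cokernel_of_epi _
    have : Subsingleton (EtCoh.H X (cokernel (EtCoh.powMap X (p ^ 0))) i) := by
      refine subsingleton_of_forall_eq 0 fun x => ?_
      rw [← Ext.comp_mk₀_id x, hz.eq_of_src (𝟙 (cokernel (EtCoh.powMap X (p ^ 0)))) 0, Ext.mk₀_zero, Ext.comp_zero]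
    infer_instance
  | succ n ih =>
    refine fin₂ (K769.Coef.shortExact (EtCoh.Gm X) p (m := n) (k := 1) rfl) i ih ?_
    have h1 := (Groth.Agent.S18104.result k p X f d i).2
    have e : cokernel (EtCoh.powMap X p) ≅ cokernel ((p ^ 1) • 𝟙 (EtCoh.Gm X)) := eqToIso (by
      rw [pow_one]
      rfl)
    exact (Hcongr e i).toEquiv.finite_iff.1 h1

end Surf

/-- The duality for flat cohomology on a surface from the duality for étale cohomology. -/
theorem of_etale (k : Type u) [Field k] [Finite k] (p : ℕ) [Fact p.Prime] [CharP k p]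
    (X : Scheme.{u}) (f : X ⟶ Spec (.of k)) [AlgebraicGeometry.IsIntegral X] [IsProper f]
    [SmoothOfRelativeDimension 2 f] (n : ℕ)
    (H : ∀ i ≤ 3, Nonempty (EtCoh.H X (cokernel (EtCoh.powMap X (p ^ n))) i ≃+
        EtCoh.H X (cokernel (EtCoh.powMap X (p ^ n))) (3 - i)))
    (i : ℕ) (hi : i ≤ 5) :
    Finite (EtFppf.HF X (kernel ((p ^ n) • 𝟙 (EtDl.GmF X))) i) ∧
      Nonempty (EtFppf.HF X (kernel ((p ^ n) • 𝟙 (EtDl.GmF X))) i ≃+
        EtFppf.HF X (kernel ((p ^ n) • 𝟙 (EtDl.GmF X))) (5 - i)) := by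
  have := isCharP k p X f
  have hmono := mono_powMap_pow X p n
  have hpos : 0 < p ^ n := pow_pos (Nat.Prime.pos Fact.out) n
  have h0 := sub_zero X (p ^ n) hmono
  have h5 : Subsingleton (EtFppf.HF X (kernel ((p ^ n) • 𝟙 (EtDl.GmF X))) 5) := by
    obtain ⟨e⟩ := main_of_mono X (p ^ n) hpos hmono 4
    exact e.toEquiv.subsingleton_congr.2 (sub_pow k p X f 2 n 4 (by omega))
  have hfin : ∀ j, Finite (EtFppf.HF X (kernel ((p ^ n) • 𝟙 (EtDl.GmF X))) j) := fun j => by
    cases j with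
    | zero => infer_instance
    | succ j =>
      obtain ⟨e⟩ := main_of_mono X (p ^ n) hpos hmono j
      exact e.toEquiv.finite_iff.2 (finite_pow k p X f 2 n j)
  refine ⟨hfin i, ?_⟩
  rcases Nat.eq_zero_or_pos i with rfl | hi0
  · exact ⟨{ toFun := 0, invFun := 0, left_inv := fun _ => Subsingleton.elim _ _,
             right_inv := fun _ => h5.elim _ _, map_add' := fun _ _ => h5.elim _ _ }⟩
  rcases Nat.lt_or_ge i 5 with hi5 | hi5
  · obtain ⟨j, rfl⟩ : ∃ j, i = j + 1 := ⟨i - 1, by omega⟩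
    obtain ⟨e1⟩ := main_of_mono X (p ^ n) hpos hmono j
    obtain ⟨e2⟩ := main_of_mono X (p ^ n) hpos hmono (3 - j)
    obtain ⟨e3⟩ := H j (by omega)
    rw [show 5 - (j + 1) = 3 - j + 1 by omega]
    exact ⟨e1.trans (e3.trans e2.symm)⟩
  · obtain rfl : i = 5 := by omega
    exact ⟨{ toFun := 0, invFun := 0, left_inv := fun _ => h5.elim _ _,
             right_inv := fun _ => Subsingleton.elim _ _, map_add' := fun _ _ => Subsingleton.elim _ _ }⟩

theorem isProper_of_projective {k : Type u} [Field k] {X : Scheme.{u}} {f : X ⟶ Spec (CommRingCat.of k)}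
    (hp : Neron.IsProjectiveOver k (Over.mk f)) : IsProper f := by
  obtain ⟨n, i, hi, hiq⟩ := hp
  have h1 : IsProper (CohB1.ProjSpaceOver.toBase n (Spec (CommRingCat.of k))) :=
    Groth.Agent.Dix.ProjProper.isProper_toBase n _
  have h2 : i ≫ CohB1.ProjSpaceOver.toBase n (Spec (CommRingCat.of k)) = f := hiq
  rw [← h2]
  infer_instance

/-- S18109 from S18107. -/
theorem of_row (k : Type u) [Field k] [Finite k] (p : ℕ) [Fact p.Prime] [CharP k p]
    (X : Scheme.{u}) (f : X ⟶ Spec (.of k)) [AlgebraicGeometry.IsIntegral X]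
    (hproj : Neron.IsProjectiveOver k (Over.mk f)) [SmoothOfRelativeDimension 2 f] (n : ℕ)
    (H : ∀ i ≤ 3, Finite (EtCoh.H X (cokernel (EtCoh.powMap X (p ^ n))) i) ∧
      Nonempty (EtCoh.H X (cokernel (EtCoh.powMap X (p ^ n))) i ≃+
        EtCoh.H X (cokernel (EtCoh.powMap X (p ^ n))) (3 - i)))
    (i : ℕ) (hi : i ≤ 5) :
    Finite (EtFppf.HF X (kernel ((p ^ n) • 𝟙 (EtDl.GmF X))) i) ∧
      Nonempty (EtFppf.HF X (kernel ((p ^ n) • 𝟙 (EtDl.GmF X))) i ≃+
        EtFppf.HF X (kernel ((p ^ n) • 𝟙 (EtDl.GmF X))) (5 - i)) :=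
  have := isProper_of_projective hproj
  of_etale k p X f n (fun i hi => (H i hi).2) i hi

end K154.FlatMu
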