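import Groth.Agent.EtCoh.K154.NodeN0

/-!
# Node N1a: the functional on the second cohomology of the twist
-/

set_option autoImplicit false

universe u

open CategoryTheory CategoryTheory.Limits AlgebraicGeometry Opposite TopologicalSpace CategoryTheory.Abelian

noncomputable section

namespace K154.N1a

open K720 K611.Sh K611.Seq K611.Seq2 K720.Tw K720.Pair K720.Nu K720.Lev1 K720.Equi K611.VanEt

section alg

theorem exists_functional' {p : ℕ} [Fact p.Prime] {G : Type*} [AddCommGroup G] [Module (ZMod p) G]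
    {A : Type*} [AddCommGroup A] (f : A →+ G) (t : A →+ ZMod p) (h : ∀ a, f a = 0 → t a = 0) :
    ∃ s : G →+ ZMod p, ∀ a, s (f a) = t a := by
  have hex : ∀ x : AddSubgroup.toZModSubmodule p f.range, ∃ a, f a = (x : G) := fun x => x.2
  choose g hg using hex
  have hwd : ∀ a b, f a = f b → t a = t b := fun a b hab => by
    rw [← sub_eq_zero, ← map_sub]
    exact h _ (by rw [map_sub, hab, sub_self])
  let s₀ : AddSubgroup.toZModSubmodule p f.range →+ ZMod p := AddMonoidHom.mk' (fun x => t (g x)) (fun x y => by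
    rw [← map_add]
    apply hwd
    rw [hg, map_add, hg, hg]
    rfl)
  obtain ⟨s, hs⟩ := LinearMap.exists_extend (AddMonoidHom.toZModLinearMap p s₀)
  refine ⟨s.toAddMonoidHom, fun a => ?_⟩
  have h1 := DFunLike.congr_fun hs (⟨f a, a, rfl⟩ : AddSubgroup.toZModSubmodule p f.range)
  refine h1.trans ?_
  change t (g _) = t a
  exact hwd _ _ (hg _)

/-- Extension of a functional with values in `𝔽_p` along a homomorphism. -/
theorem exists_functional {p : ℕ} [Fact p.Prime] {G : Type*} [AddCommGroup G] (hG : ∀ x : G, p • x = 0)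
    {A : Type*} [AddCommGroup A] (f : A →+ G) (t : A →+ ZMod p) (h : ∀ a, f a = 0 → t a = 0) :
    ∃ s : G →+ ZMod p, ∀ a, s (f a) = t a :=
  letI : Module (ZMod p) G := AddCommGroup.zmodModule hG
  exists_functional' f t h

end alg

section killed

variable {X : Scheme.{u}}

theorem nsmul_H (F : EtCoh.Ab X) (m : ℕ) (hF : ∀ (U : X.Etale) (s : EtCoh.sect F U), m • s = 0) (n : ℕ)
    (x : EtCoh.H X F n) : m • x = 0 := by
  have h1 : (m • 𝟙 F : F ⟶ F) = 0 := K720.Tw.hom_ext fun V s => by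
    have e : ap (m • 𝟙 F : F ⟶ F) V s = m • s := by
      have : ∀ m : ℕ, ap (m • 𝟙 F : F ⟶ F) V s = m • s := fun m => by
        induction m with
        | zero => rw [zero_smul, zero_smul]; rfl
        | succ m ih =>
          rw [add_smul, add_smul, one_smul, one_smul, ← ih]
          rfl
      exact this m
    rw [e, hF]
    rfl
  have h2 : m • x = x.comp (Ext.mk₀ (m • 𝟙 F : F ⟶ F)) (add_zero n) := by
    have : ∀ m : ℕ, m • x = x.comp (Ext.mk₀ (m • 𝟙 F : F ⟶ F)) (add_zero n) := fun m => by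
      induction m with
      | zero => rw [zero_smul, zero_smul, Ext.mk₀_zero, Ext.comp_zero]
      | succ m ih =>
        rw [add_smul, add_smul, one_smul, one_smul, Ext.mk₀_add, Ext.comp_add, Ext.comp_mk₀_id, ← ih]
    exact this m
  rw [h2, h1, Ext.mk₀_zero, Ext.comp_zero]

end killed

variable {p : ℕ} [hp : Fact p.Prime] {X : Scheme.{u}} (h : (p : Γ(X, ⊤)) = 0)

omit hp in
theorem killed_sh {A : CommRingCat.{u} ⥤ AddCommGrpCat.{u}}
    (hA : ∀ (B : CommRingCat.{u}) (_ : (p : B) = 0) (a : A.obj B), p • a = 0) (h : (p : Γ(X, ⊤)) = 0)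
    (U : X.Etale) (s : EtCoh.sect (sh A X) U) : p • s = 0 := by
  refine Groth.Agent.Etbase.EtSite.sect_eq_zero _ U _ fun x => ?_
  obtain ⟨V, g, v, hv, a, ha⟩ := exists_un A U s x
  refine ⟨V, g, v, hv, ?_⟩
  change rs (sh A X) g (p • s) = 0
  rw [map_nsmul]
  change p • ((sh A X).obj.map g.op s) = 0
  rw [← ha, ← map_nsmul, hA _ (h0 h V) a, map_zero]

omit hp in
theorem killed_nu (h : (p : Γ(X, ⊤)) = 0) (U : X.Etale) (s : EtCoh.sect (sh (nuF p) X) U) : p • s = 0 :=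
  killed_sh (fun _ _ a => nsmul_modF a) h U s

theorem killed_N (U : X.Etale) (s : EtCoh.sect (Nsh h) U) : p • s = 0 := by
  apply ap_injective (Nι h) U
  rw [map_nsmul, map_zero]
  exact killed_sh (fun _ hB a => nsmul_om2 p hB a) h U _

variable (T : Tor (sh (nuF p) X))

theorem killed_WN (U : X.Etale) (z : EtCoh.sect (WN h T) U) : p • z = 0 := by
  refine tw_ext ?_ fun V f g => ?_
  · rw [map_nsmul, map_zero]
    exact killed_nu h U _
  · rw [map_nsmul, map_nsmul, map_zero, map_zero]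
    exact killed_N h V _

/-- The inclusions `N → tw`, as a morphism of the exact sequences. -/
def incSeq : seqN (X := X) h ⟶ seqG h T where
  τ₁ := Tw.ι T (bN h)
  τ₂ := Tw.ι T (bΩ h)
  τ₃ := Tw.ι T (bq h)
  comm₁₂ := Tw.ι_map (T := T) (β := bN h) (β' := bΩ h) ((dlN p).sh h) (Nι h) (Nι_bN h)
  comm₂₃ := by
    have e1 : Tw.ι T (bΩ h) ≫ clG h T = (cl2N p).sh h ≫ Tw.ι T (bq h) :=
      Tw.ι_map (T := T) (β := bΩ h) (β' := bq h) ((clN p).sh h) ((cl2N p).sh h) (cl2_bΩ h)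
    have e2 : Tw.ι T (bΩ h) ≫ gmG h T = (gam2N p).sh h ≫ Tw.ι T (bq h) :=
      Tw.ι_map (T := T) (β := bΩ h) (β' := bq h) ((gamN p).sh h) ((gam2N p).sh h) (gam2_bΩ h)
    change Tw.ι T (bΩ h) ≫ cgG h T = (cg2N p).sh h ≫ Tw.ι T (bq h)
    rw [cgG, Preadditive.comp_sub, e1, e2, cg2N, NT.sh_sub, Preadditive.sub_comp]

/-- NODE N1a -/
theorem n1a (hX : HasCharts X (GoodN p 2))
    (d0 : ∃ t : EtCoh.H X (sh Q2F X) 2 →+ ZMod p, t ≠ 0 ∧
      ∀ x : EtCoh.H X (sh Om2F X) 2, t (Sheaf.H.map ((cl2N p).sh h) 2 x) = t (Sheaf.H.map ((gam2N p).sh h) 2 x))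
    (hT : Function.Injective (Sheaf.H.map (Tw.ι T (bN h)) 3)) :
    ∃ (t : EtCoh.H X (sh Q2F X) 2 →+ ZMod p) (lam : EtCoh.H X (GQ h T) 2 →+ ZMod p), t ≠ 0 ∧
      (∀ x : EtCoh.H X (sh Om2F X) 2, t (Sheaf.H.map ((cl2N p).sh h) 2 x) = t (Sheaf.H.map ((gam2N p).sh h) 2 x)) ∧
      (∀ z : EtCoh.H X (GO h T) 2, lam (Sheaf.H.map (clG h T) 2 z) = lam (Sheaf.H.map (gmG h T) 2 z)) ∧
      ∀ q : EtCoh.H X (sh Q2F X) 2, lam (Sheaf.H.map (Tw.ι T (bq h)) 2 q) = t q := by
  obtain ⟨t, ht, htN⟩ := d0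
  have hN := seqN_shortExact h hX
  have hG := seqG_shortExact h T hX
  obtain ⟨s, hs⟩ := exists_functional (nsmul_H (WN h T) p (killed_WN h T) 3)
    ((Sheaf.H.map (Tw.ι T (bN h)) 3).comp (dl hN 2)) t (fun q hq => by
      have h1 : dl hN 2 q = 0 := hT (hq.trans (map_zero _).symm)
      obtain ⟨y, hy⟩ := ex₃ hN 2 q h1
      rw [← hy]
      change t (Sheaf.H.map ((cg2N p).sh h) 2 y) = 0
      rw [cg2N, NT.sh_sub, NodeN0.H_map_sub, map_sub, htN, sub_self])
  refine ⟨t, s.comp (dl hG 2), ht, htN, fun z => ?_, fun q => ?_⟩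
  · have h1 : dl hG 2 (Sheaf.H.map (clG h T - gmG h T) 2 z) = 0 := dl_g hG 2 z
    rw [NodeN0.H_map_sub] at h1
    have h2 := (map_sub (dl hG 2) (Sheaf.H.map (clG h T) 2 z) (Sheaf.H.map (gmG h T) 2 z)).symm.trans h1
    exact congrArg s (sub_eq_zero.1 h2)
  · have h1 : dl hG 2 (Sheaf.H.map (Tw.ι T (bq h)) 2 q) = Sheaf.H.map (Tw.ι T (bN h)) 3 (dl hN 2 q) :=
      NodeN0.dl_nat hN hG (incSeq h T) 2 q
    change s (dl hG 2 (Sheaf.H.map (Tw.ι T (bq h)) 2 q)) = t q
    rw [h1]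
    exact hs q

end K154.N1a
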