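import Groth.Agent.EtCoh.K720.Equi
import Groth.Agent.EtCoh.K611.Surj

/-!
# Left nondegeneracy at level one in degree zero (node N0)

`a` a non zero global section of `ν = G_m/p`: multiplication by `a` is not zero from `H³(X, ν)` to `H³(X, N)`, as soon
as there is a non zero functional `t` on `H²(Ω²/dΩ¹)` with `t ∘ cl2 = t ∘ gam2` and the pairing
`Γ(Ω¹) × H²(Ω¹) → H²(Ω²) → 𝔽_p` is left nondegenerate.
-/

set_option autoImplicit false

universe u

open CategoryTheory CategoryTheory.Limits AlgebraicGeometry Opposite TopologicalSpace CategoryTheory.Abelian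

noncomputable section

namespace K154.NodeN0

open K611.Sh K611.Seq K611.Seq2 K720.Tw K720.Pair K720.Nu K720.Lev1 K720.Equi K611.VanEt

section les

variable {X : Scheme.{u}}

/-- Naturality of the connecting map. -/
theorem dl_nat {S S' : ShortComplex (EtCoh.Ab X)} (hS : S.ShortExact) (hS' : S'.ShortExact) (φ : S ⟶ S') (n : ℕ)
    (x : EtCoh.H X S.X₃ n) : dl hS' n (Sheaf.H.map φ.τ₃ n x) = Sheaf.H.map φ.τ₁ (n + 1) (dl hS n x) := by
  change (x.comp (Ext.mk₀ φ.τ₃) (add_zero n)).comp hS'.extClass rfl =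
    (x.comp hS.extClass rfl).comp (Ext.mk₀ φ.τ₁) (add_zero (n + 1))
  rw [Ext.comp_assoc_of_second_deg_zero, Ext.comp_assoc_of_third_deg_zero, ← hS.extClass_naturality hS' φ]

end les

variable {X : Scheme.{u}} {p : ℕ} [hp : Fact p.Prime] (h : (p : Γ(X, ⊤)) = 0)

/-- Multiplication by a global section of `ν`, as a morphism of the two exact sequences. -/
def mulSeq (a : Gs (sh (nuF p) X)) : seqNu (X := X) h ⟶ seqN (X := X) h where
  τ₁ := left (bN h) a
  τ₂ := left (bΩ h) a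
  τ₃ := left (bq h) a
  comm₁₂ := K720.Tw.hom_ext fun V s => Nι_bN h V (a.v V) s
  comm₂₃ := K720.Tw.hom_ext fun V s => by
    change ap ((cg2N p).sh h) V ((bΩ h).app V (a.v V) s) = (bq h).app V (a.v V) (ap ((cgN p).sh h) V s)
    rw [ap_cg2N, ap_cgN, map_sub, cl2_bΩ, gam2_bΩ]

theorem cl_left (a : Gs (sh (nuF p) X)) :
    left (bΩ h) a ≫ (cl2N p).sh h = (clN p).sh h ≫ left (bq h) a :=
  K720.Tw.hom_ext fun V s => cl2_bΩ h V (a.v V) s

theorem left_bΩ (a : Gs (sh (nuF p) X)) : left (bΩ h) a = left (wΩ h) (a.map ((dlN p).sh h)) :=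
  K720.Tw.hom_ext fun V s => bΩ_eq h V (a.v V) s

theorem H_map_sub {F G : EtCoh.Ab X} (φ ψ : F ⟶ G) (n : ℕ) (x : EtCoh.H X F n) :
    Sheaf.H.map (φ - ψ) n x = Sheaf.H.map φ n x - Sheaf.H.map ψ n x := by
  change x.comp (Ext.mk₀ (φ - ψ)) (add_zero n) = x.comp (Ext.mk₀ φ) (add_zero n) - x.comp (Ext.mk₀ ψ) (add_zero n)
  have e : (Ext.mk₀ (φ - ψ) : Ext F G 0) = Ext.mk₀ φ - Ext.mk₀ ψ := by
    rw [sub_eq_add_neg, Ext.mk₀_add, Ext.mk₀_neg, ← sub_eq_add_neg]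
  rw [e, sub_eq_add_neg, Ext.comp_add, Ext.comp_neg, ← sub_eq_add_neg]

/-- NODE N0, from the trace and the nondegeneracy of the wedge product. -/
theorem main (hX : HasCharts X (Good p)) (hX2 : HasCharts X (GoodN p 2))
    (t : EtCoh.H X (sh Q2F X) 2 →+ ZMod p) (ht : t ≠ 0)
    (htN : ∀ x : EtCoh.H X (sh Om2F X) 2, t (Sheaf.H.map ((cl2N p).sh h) 2 x) = t (Sheaf.H.map ((gam2N p).sh h) 2 x))
    (hs : Function.Surjective (Sheaf.H.map ((cl2N p).sh (X := X) h) 2))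
    (hD : ∀ (t : EtCoh.H X (sh Om2F X) 2 →+ ZMod p) (_ : t ≠ 0) (θ : Gs (sh OmF X))
      (_ : ∀ x : EtCoh.H X (sh OmF X) 2, t (Sheaf.H.map (left (wΩ h) θ) 2 x) = 0), θ = 0)
    (a : Gs (sh (nuF p) X)) (ha : ∀ y : EtCoh.H X (sh (nuF p) X) 3, Sheaf.H.map (left (bN h) a) 3 y = 0) : a = 0 := by
  have h1 : ∀ z : EtCoh.H X (sh QF X) 2, t (Sheaf.H.map (left (bq h) a) 2 z) = 0 := fun z => by
    have e1 := dl_nat (seqNu_shortExact h hX) (seqN_shortExact h hX2) (mulSeq h a) 2 z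
    have e2 : dl (seqN_shortExact h hX2) 2 (Sheaf.H.map (left (bq h) a) 2 z) = 0 := e1.trans (ha _)
    obtain ⟨y, hy⟩ := ex₃ (seqN_shortExact h hX2) 2 _ e2
    rw [← hy]
    change t (Sheaf.H.map ((cg2N p).sh h) 2 y) = 0
    rw [cg2N, NT.sh_sub, H_map_sub, map_sub, htN, sub_self]
  let t₁ : EtCoh.H X (sh Om2F X) 2 →+ ZMod p := t.comp (Sheaf.H.map ((cl2N p).sh (X := X) h) 2)
  have ht₁ : t₁ ≠ 0 := fun h0 => ht (by
    refine AddMonoidHom.ext fun z => ?_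
    obtain ⟨y, rfl⟩ := hs z
    exact DFunLike.congr_fun h0 y)
  have h2 : a.map ((dlN p).sh h) = 0 := hD t₁ ht₁ _ fun x => by
    rw [← left_bΩ]
    change t (Sheaf.H.map ((cl2N p).sh h) 2 (Sheaf.H.map (left (bΩ h) a) 2 x)) = 0
    rw [← Sheaf.H.map_comp_apply, cl_left, Sheaf.H.map_comp_apply]
    exact h1 _
  have := mono_dlN h hX
  refine Gs.ext fun V => ap_injective ((dlN p).sh h) V ?_
  have h3 := congrArg (fun b : Gs (sh OmF X) => b.v V) h2
  exact h3.trans (map_zero _).symm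

end K154.NodeN0
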