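import Groth.Agent.CohqB.QC5
import Groth.Agent.Sga67.Sec
import Mathlib.Topology.Sheaves.SheafCondition.UniqueGluing

/-!
# Extensions of modules glued from a cocycle of linear maps

`X` a scheme, `N`, `L` quasi-coherent modules, `U i` an open cover and `phi i j : N → L` (on the opens contained in
`U i ⊓ U j`) a cocycle of linear maps.  The twisted sum `M` of `L` and `N` along `phi` is a quasi-coherent extension of
`N` by `L` with splittings `s i` over the opens contained in `U i`, with `s i - s j = a ∘ phi i j`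
(`exists_twisted`).
-/

set_option autoImplicit false

universe u v

open CategoryTheory CategoryTheory.Limits AlgebraicGeometry TopologicalSpace Opposite

namespace K154.Twisted

open Groth.Agent.CohqB.QC2

variable {X : Scheme.{u}}

/-- Cocycles of linear maps `N → L` over the open sets contained in `U i ⊓ U j`. -/
structure Coc (N L : X.Modules) {ι : Type v} (U : ι → X.Opens) where
  /-- the maps -/
  phi : ∀ (i j : ι) (V : X.Opens), V ≤ U i → V ≤ U j → (Γ(N, V) →ₗ[Γ(X, V)] Γ(L, V))
  nat : ∀ (i j : ι) (V W : X.Opens) (h : W ≤ V) (hi : V ≤ U i) (hj : V ≤ U j) (n : Γ(N, V)),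
    res L h (phi i j V hi hj n) = phi i j W (h.trans hi) (h.trans hj) (res N h n)
  coc : ∀ (i j k : ι) (V : X.Opens) (hi : V ≤ U i) (hj : V ≤ U j) (hk : V ≤ U k) (n : Γ(N, V)),
    phi i j V hi hj n + phi j k V hj hk n = phi i k V hi hk n

section

variable {N L : X.Modules} {ι : Type u} {U : ι → X.Opens} (c : Coc N L U)

/-- The sections over `W` of the twisted sum. -/
noncomputable def sec (W : X.Opens) : AddSubgroup (Γ(N, W) × ∀ i, Γ(L, W ⊓ U i)) where
  carrier := {z | ∀ i j, res L (show W ⊓ (U i ⊓ U j) ≤ W ⊓ U j from inf_le_inf_left _ inf_le_right) (z.2 j) =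
    res L (show W ⊓ (U i ⊓ U j) ≤ W ⊓ U i from inf_le_inf_left _ inf_le_left) (z.2 i) +
      c.phi i j (W ⊓ (U i ⊓ U j)) (inf_le_right.trans inf_le_left) (inf_le_right.trans inf_le_right)
        (res N inf_le_left z.1)}
  zero_mem' := by intro i j; simp
  add_mem' := by
    intro a b ha hb i j
    have h1 := ha i j
    have h2 := hb i j
    simp only [Prod.snd_add, Prod.fst_add, Pi.add_apply, map_add] at h1 h2 ⊢
    rw [h1, h2]
    abel
  neg_mem' := by
    intro a ha i j
    have h1 := ha i j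
    simp only [Prod.snd_neg, Prod.fst_neg, Pi.neg_apply, map_neg] at h1 ⊢
    rw [h1]
    abel

/-- The scalar multiplication on the sections. -/
noncomputable instance (W : X.Opens) : Module Γ(X, W) (sec c W) where
  smul r a := ⟨(r • a.1.1, fun i => resR (inf_le_left : W ⊓ U i ≤ W) r • a.1.2 i), by
    intro i j
    have h1 := a.2 i j
    change res L _ (resR (inf_le_left : W ⊓ U j ≤ W) r • a.1.2 j) =
      res L _ (resR (inf_le_left : W ⊓ U i ≤ W) r • a.1.2 i) + c.phi i j _ _ _ (res N _ (r • a.1.1))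
    rw [res_smul, res_smul, res_smul, map_smul, resR_resR, resR_resR, h1, smul_add]⟩
  one_smul a := by
    apply Subtype.ext
    apply Prod.ext
    · exact one_smul _ _
    · funext i
      change resR (inf_le_left : W ⊓ U i ≤ W) 1 • a.1.2 i = a.1.2 i
      rw [map_one, one_smul]
  mul_smul r s a := by
    apply Subtype.ext
    apply Prod.ext
    · exact mul_smul _ _ _
    · funext i
      change resR (inf_le_left : W ⊓ U i ≤ W) (r * s) • a.1.2 i =
        resR (inf_le_left : W ⊓ U i ≤ W) r • (resR (inf_le_left : W ⊓ U i ≤ W) s • a.1.2 i)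
      rw [map_mul, mul_smul]
  smul_zero r := by
    apply Subtype.ext
    apply Prod.ext
    · exact smul_zero _
    · funext i
      exact smul_zero _
  smul_add r a b := by
    apply Subtype.ext
    apply Prod.ext
    · exact smul_add _ _ _
    · funext i
      exact smul_add _ _ _
  add_smul r s a := by
    apply Subtype.ext
    apply Prod.ext
    · exact add_smul _ _ _
    · funext i
      change resR (inf_le_left : W ⊓ U i ≤ W) (r + s) • a.1.2 i =
        resR (inf_le_left : W ⊓ U i ≤ W) r • a.1.2 i + resR (inf_le_left : W ⊓ U i ≤ W) s • a.1.2 i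
      rw [map_add, add_smul]
  zero_smul a := by
    apply Subtype.ext
    apply Prod.ext
    · exact zero_smul _ _
    · funext i
      change resR (inf_le_left : W ⊓ U i ≤ W) 0 • a.1.2 i = 0
      rw [map_zero, zero_smul]

theorem smul_fst (W : X.Opens) (r : Γ(X, W)) (a : sec c W) : (r • a).1.1 = r • a.1.1 := rfl

theorem smul_snd (W : X.Opens) (r : Γ(X, W)) (a : sec c W) (i : ι) :
    (r • a).1.2 i = resR (inf_le_left : W ⊓ U i ≤ W) r • a.1.2 i := rfl

theorem sec_ext {W : X.Opens} {a b : sec c W} (h1 : a.1.1 = b.1.1) (h2 : ∀ i, a.1.2 i = b.1.2 i) : a = b :=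
  Subtype.ext (Prod.ext h1 (funext h2))

/-- Restriction of sections. -/
noncomputable def secRes {V W : X.Opens} (h : V ≤ W) : sec c W →+ sec c V where
  toFun a := ⟨(res N h a.1.1, fun i => res L (inf_le_inf_right _ h) (a.1.2 i)), by
    intro i j
    have h1 := congrArg (res L (show V ⊓ (U i ⊓ U j) ≤ W ⊓ (U i ⊓ U j) from inf_le_inf_right _ h)) (a.2 i j)
    simp only [map_add, res_res, c.nat] at h1 ⊢
    exact h1⟩
  map_zero' := sec_ext c (map_zero _) fun i => map_zero _
  map_add' a b := sec_ext c (map_add _ _ _) fun i => map_add _ _ _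

theorem secRes_fst {V W : X.Opens} (h : V ≤ W) (a : sec c W) : (secRes c h a).1.1 = res N h a.1.1 := rfl

theorem secRes_snd {V W : X.Opens} (h : V ≤ W) (a : sec c W) (i : ι) :
    (secRes c h a).1.2 i = res L (inf_le_inf_right _ h) (a.1.2 i) := rfl

/-- The twisted sum, as a presheaf of abelian groups. -/
noncomputable def pre : X.Opensᵒᵖ ⥤ Ab.{u} where
  obj W := AddCommGrpCat.of (sec c W.unop)
  map f := AddCommGrpCat.ofHom (secRes c (leOfHom f.unop))
  map_id W := by
    apply AddCommGrpCat.hom_ext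
    apply AddMonoidHom.ext
    intro a
    exact sec_ext c (res_rfl _ _) fun i => res_rfl _ _
  map_comp {W₁ W₂ W₃} f h := by
    apply AddCommGrpCat.hom_ext
    apply AddMonoidHom.ext
    intro a
    exact sec_ext c (res_res _ _ _ _).symm fun i => (res_res _ _ _ _).symm

noncomputable instance (W : X.Opensᵒᵖ) : Module (X.ringCatSheaf.obj.obj W) ((pre c).obj W) :=
  inferInstanceAs (Module Γ(X, W.unop) (sec c W.unop))

/-- The twisted sum, as a presheaf of modules. -/
noncomputable def preMod : PresheafOfModules.{u} X.ringCatSheaf.obj :=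
  PresheafOfModules.ofPresheaf (pre c) (by
    intro W₁ W₂ f r m
    refine sec_ext c ?_ fun i => ?_
    · exact res_smul N (leOfHom f.unop) (show Γ(X, W₁.unop) from r) (show sec c W₁.unop from m).1.1
    · change res L (inf_le_inf_right _ (leOfHom f.unop)) (resR (inf_le_left : W₁.unop ⊓ U i ≤ W₁.unop)
          (show Γ(X, W₁.unop) from r) • (show sec c W₁.unop from m).1.2 i) =
        resR (inf_le_left : W₂.unop ⊓ U i ≤ W₂.unop) (resR (leOfHom f.unop) (show Γ(X, W₁.unop) from r)) •
          res L (inf_le_inf_right _ (leOfHom f.unop)) ((show sec c W₁.unop from m).1.2 i)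
      rw [res_smul, resR_resR, resR_resR])

theorem isSheaf_pre : TopCat.Presheaf.IsSheaf (pre c) := by
  rw [TopCat.Presheaf.isSheaf_iff_isSheafUniqueGluing]
  intro κ W sf hsf
  have hle : ∀ i k, W k ⊓ U i ≤ (⨆ k, W k) ⊓ U i := fun i k => inf_le_inf_right _ (le_iSup W k)
  have hcov : ∀ i, (⨆ k, W k) ⊓ U i ≤ ⨆ k, W k ⊓ U i := fun i => by rw [iSup_inf_eq]
  have hc1 : ∀ k l, res N (show W k ⊓ W l ≤ W k from inf_le_left) (show sec c (W k) from sf k).1.1 =
      res N (show W k ⊓ W l ≤ W l from inf_le_right) (show sec c (W l) from sf l).1.1 := fun k l =>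
    congrArg Prod.fst (congrArg Subtype.val (hsf k l))
  have hc : ∀ k l i, res L (show W k ⊓ W l ⊓ U i ≤ W k ⊓ U i from inf_le_inf_right _ inf_le_left)
      ((show sec c (W k) from sf k).1.2 i) =
      res L (show W k ⊓ W l ⊓ U i ≤ W l ⊓ U i from inf_le_inf_right _ inf_le_right)
        ((show sec c (W l) from sf l).1.2 i) := fun k l i =>
    congrFun (congrArg Prod.snd (congrArg Subtype.val (hsf k l))) i
  obtain ⟨n, hn⟩ := exists_glue N W (fun k => le_iSup W k) le_rfl
    (fun k => (show sec c (W k) from sf k).1.1) hc1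
  have hex : ∀ i, ∃ t : Γ(L, (⨆ k, W k) ⊓ U i), ∀ k, res L (hle i k) t =
      (show sec c (W k) from sf k).1.2 i := fun i => by
    refine exists_glue L (fun k => W k ⊓ U i) (hle i) (hcov i) _ fun k l => ?_
    have := congrArg (res L (show (W k ⊓ U i) ⊓ (W l ⊓ U i) ≤ W k ⊓ W l ⊓ U i from
      le_inf (inf_le_inf inf_le_left inf_le_left) (inf_le_left.trans inf_le_right))) (hc k l i)
    rw [res_res, res_res] at this
    exact this
  choose t ht using hex
  refine ⟨(⟨(n, t), ?_⟩ : sec c (⨆ k, W k)), ?_, ?_⟩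
  · intro i j
    refine section_ext L (fun k => W k ⊓ (U i ⊓ U j)) (fun k => inf_le_inf_right _ (le_iSup W k))
      (by rw [iSup_inf_eq]) _ _ fun k => ?_
    have h1 := (show sec c (W k) from sf k).2 i j
    rw [← ht i k, ← ht j k, ← hn k] at h1
    simp only [map_add, res_res, c.nat] at h1 ⊢
    exact h1
  · intro k
    exact sec_ext c (hn k) fun i => ht i k
  · intro t' ht'
    refine sec_ext c ?_ fun i => ?_
    · refine section_ext N W (fun k => le_iSup W k) le_rfl _ _ fun k => ?_
      rw [hn k]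
      exact congrArg Prod.fst (congrArg Subtype.val (ht' k))
    · refine section_ext L (fun k => W k ⊓ U i) (hle i) (hcov i) _ _ fun k => ?_
      rw [ht i k]
      exact congrFun (congrArg Prod.snd (congrArg Subtype.val (ht' k))) i

/-- The twisted sum. -/
noncomputable def tw : X.Modules :=
  (⟨preMod c, isSheaf_pre c⟩ : SheafOfModules.{u} X.ringCatSheaf)

/-- Sections of the twisted sum. -/
noncomputable def toSec {W : X.Opens} : Γ(tw c, W) ≃ₗ[Γ(X, W)] sec c W :=
  { AddEquiv.refl _ with map_smul' := fun _ _ => rfl }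

theorem toSec_res {V W : X.Opens} (h : V ≤ W) (a : Γ(tw c, W)) :
    toSec c (res _ h a) = secRes c h (toSec c a) := rfl

/-- A morphism of modules from a natural family of linear maps. -/
noncomputable def homMk {F G : X.Modules} (φ : ∀ V : X.Opens, Γ(F, V) →ₗ[Γ(X, V)] Γ(G, V))
    (nat : ∀ (V V' : X.Opens) (h : V' ≤ V) (s : Γ(F, V)), φ V' (res F h s) = res G h (φ V s)) :
    F ⟶ G :=
  ⟨{ app := fun V => ModuleCat.ofHom (X := F.val.obj V) (Y := G.val.obj V) (φ V.unop)
     naturality := fun {V V'} f => by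
      ext s
      exact nat V.unop V'.unop (leOfHom f.unop) s }⟩

@[simp] theorem homMk_app {F G : X.Modules} (φ : ∀ V : X.Opens, Γ(F, V) →ₗ[Γ(X, V)] Γ(G, V))
    (nat : ∀ (V V' : X.Opens) (h : V' ≤ V) (s : Γ(F, V)), φ V' (res F h s) = res G h (φ V s))
    (V : X.Opens) (s : Γ(F, V)) : (homMk φ nat).app V s = φ V s := rfl

/-- The inclusion, on sections. -/
noncomputable def incS (W : X.Opens) : Γ(L, W) →ₗ[Γ(X, W)] sec c W where
  toFun l := ⟨(0, fun i => res L (inf_le_left : W ⊓ U i ≤ W) l), by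
    intro i j
    simp only [map_zero, add_zero, res_res]⟩
  map_add' a b := sec_ext c (zero_add _).symm fun i => map_add _ _ _
  map_smul' r a := sec_ext c (smul_zero _).symm fun i => res_smul _ _ _ _

theorem incS_fst {W : X.Opens} (l : Γ(L, W)) : (incS c W l).1.1 = 0 := rfl

theorem incS_snd {W : X.Opens} (l : Γ(L, W)) (i : ι) :
    (incS c W l).1.2 i = res L (inf_le_left : W ⊓ U i ≤ W) l := rfl

/-- The inclusion of `L`. -/
noncomputable def inc : L ⟶ tw c :=
  homMk (G := tw c) (fun V => (toSec c).symm.toLinearMap.comp (incS c V)) (fun V V' h l => by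
    refine sec_ext c (map_zero _).symm fun i => ?_
    change res L _ (res L h l) = res L _ (res L _ l)
    rw [res_res, res_res])

theorem toSec_inc {W : X.Opens} (l : Γ(L, W)) : toSec c ((inc c).app W l) = incS c W l := rfl

/-- The projection, on sections. -/
noncomputable def prS (W : X.Opens) : sec c W →ₗ[Γ(X, W)] Γ(N, W) where
  toFun a := a.1.1
  map_add' _ _ := rfl
  map_smul' _ _ := rfl

/-- The projection onto `N`. -/
noncomputable def pr : tw c ⟶ N :=
  homMk (F := tw c) (fun V => (prS c V).comp (toSec c).toLinearMap) (fun V V' h l => rfl)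

theorem pr_app {W : X.Opens} (a : Γ(tw c, W)) : (pr c).app W a = (toSec c a).1.1 := rfl

/-- The splitting over the open subsets of `U i`, on sections. -/
noncomputable def splS (i : ι) (W : X.Opens) (hW : W ≤ U i) : Γ(N, W) →ₗ[Γ(X, W)] sec c W where
  toFun n := ⟨(n, fun j => c.phi i j (W ⊓ U j) (inf_le_left.trans hW) inf_le_right (res N inf_le_left n)), by
    intro j k
    simp only [c.nat, res_res, c.coc]⟩
  map_add' a b := sec_ext c rfl fun j => by
    change c.phi i j _ _ _ (res N _ (a + b)) = c.phi i j _ _ _ (res N _ a) + c.phi i j _ _ _ (res N _ b)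
    rw [map_add, map_add]
  map_smul' r a := sec_ext c rfl fun j => by
    change c.phi i j _ _ _ (res N _ (r • a)) = resR _ r • c.phi i j _ _ _ (res N _ a)
    rw [res_smul, map_smul]

/-- The splitting over the open subsets of `U i`. -/
noncomputable def spl (i : ι) (W : X.Opens) (hW : W ≤ U i) : Γ(N, W) →ₗ[Γ(X, W)] Γ(tw c, W) :=
  (toSec c).symm.toLinearMap.comp (splS c i W hW)

theorem pr_spl (i : ι) (W : X.Opens) (hW : W ≤ U i) (n : Γ(N, W)) :
    (pr c).app W (spl c i W hW n) = n := rfl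

theorem spl_nat (i : ι) (V W : X.Opens) (h : V ≤ W) (hW : W ≤ U i) (n : Γ(N, W)) :
    res (tw c) h (spl c i W hW n) = spl c i V (h.trans hW) (res N h n) := by
  refine sec_ext c rfl fun j => ?_
  change res L _ (c.phi i j _ _ _ (res N _ n)) = c.phi i j _ _ _ (res N _ (res N _ n))
  rw [c.nat, res_res, res_res]

theorem spl_sub (i j : ι) (W : X.Opens) (hi : W ≤ U i) (hj : W ≤ U j) (n : Γ(N, W)) :
    spl c i W hi n - spl c j W hj n = (inc c).app W (c.phi i j W hi hj n) := by
  refine sec_ext c (sub_self _) fun k => ?_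
  change c.phi i k _ _ _ (res N _ n) - c.phi j k _ _ _ (res N _ n) = res L _ (c.phi i j W hi hj n)
  rw [c.nat, sub_eq_iff_eq_add, c.coc]

theorem inc_pr : inc c ≫ pr c = 0 := by
  apply Groth.Agent.Sga67.Sec.hom_ext
  intro V s
  rfl

/-- The short complex `L → tw → N`. -/
noncomputable def ses : ShortComplex X.Modules := ShortComplex.mk (inc c) (pr c) (inc_pr c)

theorem inc_injective (hU : ⨆ i, U i = ⊤) (W : X.Opens) : Function.Injective ((inc c).app W) := by
  intro a b hab
  have h1 : incS c W a = incS c W b := hab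
  refine section_ext L (fun i => W ⊓ U i) (fun i => inf_le_left) ?_ _ _ fun i => ?_
  · rw [← inf_iSup_eq, hU, inf_top_eq]
  · exact congrFun (congrArg (fun z => (Subtype.val z).2) h1) i

theorem exists_inc (hU : ⨆ i, U i = ⊤) (W : X.Opens) (a : Γ(tw c, W)) (ha : (pr c).app W a = 0) :
    ∃ l, (inc c).app W l = a := by
  have h0 : (toSec c a).1.1 = 0 := ha
  obtain ⟨l, hl⟩ := exists_glue L (fun i => W ⊓ U i) (fun i => inf_le_left)
    (by rw [← inf_iSup_eq, hU, inf_top_eq]) (toSec c a).1.2 (fun i j => by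
      have h1 := (toSec c a).2 i j
      rw [h0, map_zero, map_zero, add_zero] at h1
      have h2 := congrArg (res L (show (W ⊓ U i) ⊓ (W ⊓ U j) ≤ W ⊓ (U i ⊓ U j) from
        le_inf (inf_le_left.trans inf_le_left) (inf_le_inf inf_le_right inf_le_right))) h1
      rw [res_res, res_res] at h2
      exact h2.symm)
  refine ⟨l, sec_ext c h0.symm fun i => hl i⟩

theorem shortExact (hU : ⨆ i, U i = ⊤) : (ses c).ShortExact where
  exact := Groth.Agent.Sga67.Sec.exact_of_locally fun W s hs x hx => by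
    obtain ⟨l, hl⟩ := exists_inc c hU W s hs
    refine ⟨W, le_rfl, hx, l, ?_⟩
    rw [Groth.Agent.Sga67.Sec.res_self]
    exact hl
  mono_f := by
    apply Preadditive.mono_of_cancel_zero
    intro K g hg
    apply Groth.Agent.Sga67.Sec.hom_ext
    intro V s
    apply inc_injective c hU V
    have := congrArg (fun f => Groth.Agent.Sga67.Sec.appS f V s) hg
    exact this.trans (map_zero _).symm
  epi_g := Groth.Agent.Sga67.Sec.epi_of_locally_surjective _ fun W s x hx => by
    have hx' : x ∈ ⨆ i, U i := by rw [hU]; trivial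
    rw [Opens.mem_iSup] at hx'
    obtain ⟨i, hi⟩ := hx'
    exact ⟨W ⊓ U i, inf_le_left, ⟨hx, hi⟩, spl c i (W ⊓ U i) inf_le_right (res N inf_le_left s), rfl⟩

theorem isQuasicoherent_tw (hU : ⨆ i, U i = ⊤)
    (hL : SheafOfModules.IsQuasicoherent (R := X.ringCatSheaf) L)
    (hN : SheafOfModules.IsQuasicoherent (R := X.ringCatSheaf) N) :
    SheafOfModules.IsQuasicoherent (R := X.ringCatSheaf) (tw c) :=
  haveI := (shortExact c hU).epi_g
  haveI := (shortExact c hU).mono_f
  Groth.Agent.CohqB.QC5.isQuasicoherent_of_extension (S := ses c) (shortExact c hU).exact hL hN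

end

/-- Extensions of modules glued from a cocycle of linear maps. -/
theorem exists_twisted' {N L : X.Modules} (hN : SheafOfModules.IsQuasicoherent (R := X.ringCatSheaf) N)
    (hL : SheafOfModules.IsQuasicoherent (R := X.ringCatSheaf) L) {ι : Type u} (U : ι → X.Opens)
    (hU : ⨆ i, U i = ⊤)
    (phi : ∀ (i j : ι) (V : X.Opens), V ≤ U i → V ≤ U j → (Γ(N, V) →ₗ[Γ(X, V)] Γ(L, V)))
    (nat : ∀ (i j : ι) (V W : X.Opens) (h : W ≤ V) (hi : V ≤ U i) (hj : V ≤ U j) (n : Γ(N, V)),
      res L h (phi i j V hi hj n) = phi i j W (h.trans hi) (h.trans hj) (res N h n))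
    (coc : ∀ (i j k : ι) (V : X.Opens) (hi : V ≤ U i) (hj : V ≤ U j) (hk : V ≤ U k) (n : Γ(N, V)),
      phi i j V hi hj n + phi j k V hj hk n = phi i k V hi hk n) :
    ∃ (M : X.Modules) (_ : SheafOfModules.IsQuasicoherent (R := X.ringCatSheaf) M) (a : L ⟶ M) (b : M ⟶ N)
      (w : a ≫ b = 0) (_ : (ShortComplex.mk a b w).ShortExact)
      (s : ∀ (i : ι) (V : X.Opens), V ≤ U i → (Γ(N, V) →ₗ[Γ(X, V)] Γ(M, V))),
      (∀ (i : ι) (V W : X.Opens) (h : W ≤ V) (hi : V ≤ U i) (n : Γ(N, V)),
        res M h (s i V hi n) = s i W (h.trans hi) (res N h n)) ∧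
      (∀ (i : ι) (V : X.Opens) (hi : V ≤ U i) (n : Γ(N, V)), b.app V (s i V hi n) = n) ∧
      (∀ (i j : ι) (V : X.Opens) (hi : V ≤ U i) (hj : V ≤ U j) (n : Γ(N, V)),
        s i V hi n - s j V hj n = a.app V (phi i j V hi hj n)) ∧
      (∀ V : X.Opens, Function.Injective (a.app V)) ∧
      (∀ (V : X.Opens) (m : Γ(M, V)), b.app V m = 0 → ∃ l, a.app V l = m) :=
  let c : Coc N L U := ⟨phi, nat, coc⟩
  ⟨tw c, isQuasicoherent_tw c hU hL hN, inc c, pr c, inc_pr c, shortExact c hU, spl c, fun i V W h hi n =>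
    spl_nat c i W V h hi n, pr_spl c, spl_sub c, inc_injective c hU, exists_inc c hU⟩

/-- Extensions of modules glued from a cocycle of linear maps (index set a finite type in any universe). -/
theorem exists_twisted {N L : X.Modules} (hN : SheafOfModules.IsQuasicoherent (R := X.ringCatSheaf) N)
    (hL : SheafOfModules.IsQuasicoherent (R := X.ringCatSheaf) L) {ι : Type v} [Finite ι] (U : ι → X.Opens)
    (hU : ⨆ i, U i = ⊤)
    (phi : ∀ (i j : ι) (V : X.Opens), V ≤ U i → V ≤ U j → (Γ(N, V) →ₗ[Γ(X, V)] Γ(L, V)))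
    (nat : ∀ (i j : ι) (V W : X.Opens) (h : W ≤ V) (hi : V ≤ U i) (hj : V ≤ U j) (n : Γ(N, V)),
      res L h (phi i j V hi hj n) = phi i j W (h.trans hi) (h.trans hj) (res N h n))
    (coc : ∀ (i j k : ι) (V : X.Opens) (hi : V ≤ U i) (hj : V ≤ U j) (hk : V ≤ U k) (n : Γ(N, V)),
      phi i j V hi hj n + phi j k V hj hk n = phi i k V hi hk n) :
    ∃ (M : X.Modules) (_ : SheafOfModules.IsQuasicoherent (R := X.ringCatSheaf) M) (a : L ⟶ M) (b : M ⟶ N)
      (w : a ≫ b = 0) (_ : (ShortComplex.mk a b w).ShortExact)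
      (s : ∀ (i : ι) (V : X.Opens), V ≤ U i → (Γ(N, V) →ₗ[Γ(X, V)] Γ(M, V))),
      (∀ (i : ι) (V W : X.Opens) (h : W ≤ V) (hi : V ≤ U i) (n : Γ(N, V)),
        res M h (s i V hi n) = s i W (h.trans hi) (res N h n)) ∧
      (∀ (i : ι) (V : X.Opens) (hi : V ≤ U i) (n : Γ(N, V)), b.app V (s i V hi n) = n) ∧
      (∀ (i j : ι) (V : X.Opens) (hi : V ≤ U i) (hj : V ≤ U j) (n : Γ(N, V)),
        s i V hi n - s j V hj n = a.app V (phi i j V hi hj n)) ∧
      (∀ V : X.Opens, Function.Injective (a.app V)) ∧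
      (∀ (V : X.Opens) (m : Γ(M, V)), b.app V m = 0 → ∃ l, a.app V l = m) := by
  let e : ULift.{u} (Fin (Nat.card ι)) ≃ ι := Equiv.ulift.trans (Finite.equivFin ι).symm
  obtain ⟨M, hM, a, b, w, hS, s, h1, h2, h3, h4, h5⟩ := exists_twisted' hN hL (fun i => U (e i))
    (by rw [← hU]; exact e.iSup_comp (g := U)) (fun i j V hi hj => phi (e i) (e j) V hi hj)
    (fun i j => nat (e i) (e j)) (fun i j k => coc (e i) (e j) (e k))
  have he : ∀ i, U i = U (e (e.symm i)) := fun i => by rw [e.apply_symm_apply]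
  refine ⟨M, hM, a, b, w, hS, fun i V hi => s (e.symm i) V (hi.trans (he i).le), fun i V W h hi n => h1 _ _ _ h _ n,
    fun i V hi n => h2 _ _ _ n, fun i j V hi hj n => ?_, h4, h5⟩
  rw [h3 _ _ V (hi.trans (he i).le) (hj.trans (he j).le)]
  have key : ∀ (i' j' : ι) (hi' : i' = i) (hj' : j' = j) (h1 : V ≤ U i') (h2 : V ≤ U j'),
      phi i' j' V h1 h2 n = phi i j V hi hj n := by
    rintro _ _ rfl rfl _ _
    rfl
  exact congrArg _ (key _ _ (e.apply_symm_apply i) (e.apply_symm_apply j) _ _)

end K154.Twisted
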