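import Groth.Agent.EtCoh.K56.Loc
import Groth.Agent.EtCoh.K554.Mv3

/-!
# Vanishing of the cohomology of the torsion of the sheaf of two-forms on affine opens of the charts

`V1` (`vanish`): `Ext^(q+1)(ℤ_U, (Ω²)[p^a]) = 0` for an affine open `U` contained in a chart of `P²` of level `n`.
`V2` (`e_zero₁`, `e_zero₂`, `e_zero₃`): the boundary map of node M kills the coboundaries.
-/

set_option autoImplicit false

universe u

open CategoryTheory CategoryTheory.Limits AlgebraicGeometry Opposite TopologicalSpace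
open CategoryTheory.Abelian (Ext)
open K56.T4

noncomputable section

namespace K154.Vanish

attribute [local instance 3000] K554.Mv.hsE K554.Mv.hxE

section V2

open K554.Mv K554.MvExt K554.Mv3

variable {P : Scheme.{u}} (a b c : P.Opens) (hU : a ⊔ (b ⊔ c) = ⊤) (F : EtCoh.Ab P)

theorem e_zero₁ (x : EtCoh.sect F (ob (a ⊓ b))) :
    e a b c hU F (rst F (by exact le_inf inf_le_left (inf_le_right.trans inf_le_left)) x) = 0 := by
  rw [e_apply, ← res_m0]
  have h1 : dl (mv (e₁ a b c) (e₂ a b c)) F 0 (res (Zi (le_inf inf_le_left (inf_le_right.trans inf_le_left) :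
    a ⊓ (b ⊓ c) ≤ a ⊓ b)) F 0 (m0 F (a ⊓ b) x)) = 0 := dl_res_p _ _
  rw [h1, map_zero, map_zero]

theorem e_zero₂ (y : EtCoh.sect F (ob (a ⊓ c))) :
    e a b c hU F (rst F (by exact le_inf inf_le_left (inf_le_right.trans inf_le_right)) y) = 0 := by
  rw [e_apply, ← res_m0]
  have h1 : dl (mv (e₁ a b c) (e₂ a b c)) F 0 (res (Zi (le_inf inf_le_left (inf_le_right.trans inf_le_right) :
    a ⊓ (b ⊓ c) ≤ a ⊓ c)) F 0 (m0 F (a ⊓ c) y)) = 0 := dl_res_q _ _
  rw [h1, map_zero, map_zero]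

theorem e_zero₃ (z : EtCoh.sect F (ob (b ⊓ c))) :
    e a b c hU F (rst F (by exact inf_le_right) z) = 0 := by
  rw [e_apply, ← res_m0]
  have h1 := dl_rst a b c F (m0 F (b ⊓ c) z)
  rw [← h1]
  have h2 : dl (mv (U₁ := a ⊓ (b ⊔ c)) (U₂ := a) (U₃ := b ⊔ c) (U₄ := ⊤) rfl hU.symm) F 1
    (res (Zi (inf_le_right : a ⊓ (b ⊔ c) ≤ b ⊔ c)) F 1 (dl (mv (U₁ := b ⊓ c) (U₂ := b) (U₃ := c) (U₄ := b ⊔ c)
      rfl rfl) F 0 (m0 F (b ⊓ c) z))) = 0 := dl_res_q _ _
  rw [h2, map_zero]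

end V2

theorem comp_extClass_of_lift {P : Scheme.{u}} {S : ShortComplex (EtCoh.Ab P)} (hS : S.ShortExact)
    {Z : EtCoh.Ab P} (y : Z ⟶ S.X₃) (t : Z ⟶ S.X₂) (h : t ≫ S.g = y) :
    (Ext.mk₀ y).comp hS.extClass (zero_add 1) = 0 := by
  rw [← h, ← Ext.mk₀_comp_mk₀]
  have h4 : (Ext.mk₀ S.g).comp hS.extClass (zero_add 1) = 0 := hS.comp_extClass
  refine (Ext.comp_assoc_of_second_deg_zero _ _ _ _).trans ?_
  exact (congrArg (fun z => (Ext.mk₀ t).comp z (zero_add 1)) h4).trans (Ext.comp_zero _ _ _ _ _)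

section V1

open K56.T4.P2 K56.T4.Sec K56.T4.Abs K611.Sh K611.Gam2 K611.Seq2

variable {P : Scheme.{u}} {W : Type u} [CommRing W] {D : P2 P W} {p n : ℕ} {k : Type u} [Field k]
  {B : WB p n k W} (hB : B.HasTor)

include hB

/-- Divisibility of the sections over the basis. -/
theorem exists_div (V : P.Etale) (hV : D.Bas V) (a : ℕ) (ha : a ≤ n) (s : EtCoh.sect (sh Om2F P) V)
    (hs : p ^ (n - a) • s = 0) : ∃ t : EtCoh.sect (sh Om2F P) V, p ^ a • t = s := by
  obtain ⟨T, -⟩ := exists_isT' hB V hV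
  obtain ⟨ω, rfl⟩ := (un_bijective V hV.1).2 s
  obtain ⟨f, rfl⟩ := T.exists_smul_vol ω
  have h1 : p ^ (n - a) • (f • K611.Top.vol T.fr) = 0 := by
    apply (un_bijective V hV.1).1
    rw [← smul_un, hs]
    exact (map_zero (un Om2F V)).symm
  rw [nsmul_smul_vol, Nat.cast_pow] at h1
  have h2 : (p : Γ(V.left, ⊤)) ^ (n - a) * f = 0 := by
    apply T.smul_vol_inj
    rw [h1, zero_smul]
  obtain ⟨b, hb⟩ := T.flat (n - a) (Nat.sub_le n a) f h2
  refine ⟨un Om2F V (b • K611.Top.vol T.fr), ?_⟩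
  rw [smul_un, nsmul_smul_vol, Nat.cast_pow, hb]
  congr 4
  omega

/-- The map `F → K (n - a)`, multiplication by `p^a`. -/
def g (D : P2 P W) (a : ℕ) (ha : a ≤ n) : sh Om2F P ⟶ K (sh Om2F P) p (n - a) :=
  kLift p (n - a) ((p ^ a) • 𝟙 (sh Om2F P)) (by
    rw [smul_smul, ← pow_add, Nat.sub_add_cancel ha]
    exact pn_smul D hB)

theorem g_ki (a : ℕ) (ha : a ≤ n) : g hB D a ha ≫ ki (sh Om2F P) p (n - a) = (p ^ a) • 𝟙 (sh Om2F P) :=
  kLift_ki _ _ _ _

theorem g_app (a : ℕ) (ha : a ≤ n) (V : P.Etale) (s : EtCoh.sect (sh Om2F P) V) :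
    (ki (sh Om2F P) p (n - a)).hom.app (op V) ((g hB D a ha).hom.app (op V) s) = p ^ a • s := by
  have h1 := congrArg (fun φ : sh Om2F P ⟶ sh Om2F P => φ.hom.app (op V) s) (g_ki hB (D := D) a ha)
  exact h1.trans (nsmul_app (p ^ a) V s)

/-- Surjectivity on the sections over the basis. -/
theorem exists_g (a : ℕ) (ha : a ≤ n) (V : P.Etale) (hV : D.Bas V)
    (t : EtCoh.sect (K (sh Om2F P) p (n - a)) V) : ∃ s, (g hB D a ha).hom.app (op V) s = t := by
  obtain ⟨s, hs⟩ := exists_div hB V hV a ha _ (ki_spec (sh Om2F P) p (n - a) V t)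
  exact ⟨s, ki_inj (sh Om2F P) p (n - a) V ((g_app hB a ha V s).trans hs)⟩

/-- The short exact sequence `0 → K a → F → K (n - a) → 0`. -/
def seq (D : P2 P W) (a : ℕ) (ha : a ≤ n) : ShortComplex (EtCoh.Ab P) :=
  ShortComplex.mk (ki (sh Om2F P) p a) (g hB D a ha) (by
    rw [← cancel_mono (ki (sh Om2F P) p (n - a)), Category.assoc, g_ki, Preadditive.comp_nsmul, Category.comp_id,
      ki_smul, zero_comp])

theorem seq_shortExact (a : ℕ) (ha : a ≤ n) : (seq hB D a ha).ShortExact where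
  exact := by
    refine Groth.Agent.CurvesA.SheafKer.exact_of_sections (ki (sh Om2F P) p a) (g hB D a ha)
      (fun U => Groth.Agent.CurvesA.SheafKer.injective_of_mono _ U) (fun U s hs => ?_) (seq hB D a ha).zero
    refine exists_ki (sh Om2F P) p a U s ?_
    rw [← g_app hB (D := D) a ha U s]
    exact (congrArg ((ki (sh Om2F P) p (n - a)).hom.app (op U)) hs).trans (map_zero _)
  mono_f := inferInstanceAs (Mono (ki (sh Om2F P) p a))
  epi_g := by
    rw [Groth.Agent.Dix.EtaleSieve.epi_iff]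
    intro U s x
    obtain ⟨V, h, v, hv, hV⟩ := D.isBasis U x
    obtain ⟨t, ht⟩ := exists_g hB a ha V hV ((K (sh Om2F P) p (n - a)).obj.map h.op s)
    exact ⟨V, h, ⟨v, hv⟩, t, ht⟩

omit hB [CommRing W] in
theorem bas_ob {W : Type u} [CommRing W] {D : P2 P W} (U : P.Opens) (hU : IsAffineOpen U) (i : Fin 3)
    (hi : U ≤ D.U i) : D.Bas (ob U) :=
  ⟨hU, i, fun v => hi v.2⟩

/-- NODE V1. -/
theorem vanish (U : P.Opens) (hU : IsAffineOpen U) (i : Fin 3) (hi : U ≤ D.U i) (a : ℕ) (ha : a ≤ n) (q : ℕ) :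
    Subsingleton (Ext (Zo U) (K (sh Om2F P) p a) (q + 1)) := by
  have hF : ∀ q : ℕ, Subsingleton (Ext (Zo U) (sh Om2F P) (q + 1)) := fun q =>
    K554.Mv.subsingleton_Ext U hU (sh Om2F P) (om2_etAcyc P) q
  induction q generalizing a with
  | zero =>
    refine subsingleton_of_forall_eq 0 fun x => ?_
    have hS := seq_shortExact hB (D := D) a ha
    obtain ⟨y, hy⟩ := Ext.covariant_sequence_exact₁ _ hS x ((hF 0).elim _ _) (zero_add 1)
    obtain ⟨y, rfl⟩ := (Ext.mk₀_bijective _ _).2 y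
    obtain ⟨t, ht⟩ := exists_g hB a ha (ob U) (bas_ob U hU i hi) (K554.Mv.evo U _ y)
    have h3 : (K554.Mv.evo U _).symm t ≫ g hB D a ha = y := by
      apply (K554.Mv.evo U _).injective
      rw [K554.Mv.evo_comp, AddEquiv.apply_symm_apply]
      exact ht
    rw [← hy]
    exact comp_extClass_of_lift hS y _ h3
  | succ q ih =>
    refine subsingleton_of_forall_eq 0 fun x => ?_
    have hS := seq_shortExact hB (D := D) a ha
    obtain ⟨y, hy⟩ := Ext.covariant_sequence_exact₁ _ hS x ((hF (q + 1)).elim _ _) (n₀ := q + 1) rfl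
    have h5 := ih (n - a) (Nat.sub_le n a)
    have h6 : y = 0 := h5.elim _ _
    rw [← hy, h6]
    exact Ext.zero_comp (C := EtCoh.Ab P) _ _ _ _ _

end V1

end K154.Vanish
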